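import Groth.Agent.ResLF28.Main
import Groth.Agent.KPn28.Basic
import Groth.Agent.KvbLam28.Basic
import Groth.Agent.FlatCx12.PushStalk
import Groth.Agent.CAlgH.RegImmStalk
import Groth.Agent.DCat.ClosedPushD
import Groth.Agent.Coherent.FinitePres
import Groth.Prelude.Def_Mor2

/-!
# Pushforward of classes of vector bundles along a regular closed immersion
-/

set_option autoImplicit false
set_option backward.isDefEq.respectTransparency false
set_option linter.style.haveILetI false

universe u v w

open CategoryTheory CategoryTheory.Limits AlgebraicGeometry RingTheory.Sequence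
open Groth.Agent.ResLF28

noncomputable section

namespace Groth.Agent.KPush28

/-- The quotient by a regular sequence. -/
theorem pd_quot {R : Type u} [CommRing R] [IsLocalRing R] [IsNoetherianRing R] (rs : List R)
    (reg : IsRegular R rs) :
    HasProjectiveDimensionLT (ModuleCat.of R (R ⧸ Ideal.ofList rs)) (rs.length + 1) := by
  have h := ModuleCat.projectiveDimension_quotient_eq_length.{u} rs reg
  rw [projectiveDimension_eq_of_iso (Shrink.linearEquiv R (R ⧸ Ideal.ofList rs)).toModuleIso] at h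
  exact (projectiveDimension_le_iff _ rs.length).1 h.le

theorem pd_pi {R : Type u} [CommRing R] (Q : Type u) [AddCommGroup Q] [Module R Q] {n : ℕ}
    (h : HasProjectiveDimensionLT (ModuleCat.of R Q) (n + 1)) :
    ∀ m : ℕ, HasProjectiveDimensionLT (ModuleCat.of R (Fin m → Q)) (n + 1) := by
  intro m
  induction m with
  | zero =>
    haveI := (ModuleCat.isZero_of_subsingleton (ModuleCat.of R (Fin 0 → Q))).hasProjectiveDimensionLT_zero
    exact hasProjectiveDimensionLT_of_ge _ 0 (n + 1) (Nat.zero_le _)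
  | succ m ih =>
    let e : ModuleCat.of R (Fin (m + 1) → Q) ≅ ModuleCat.of R Q ⊞ ModuleCat.of R (Fin m → Q) :=
      (Fin.consLinearEquiv R (fun _ : Fin (m + 1) => Q)).symm.toModuleIso ≪≫
        (ModuleCat.biprodIsoProd (ModuleCat.of R Q) (ModuleCat.of R (Fin m → Q))).symm
    exact hasProjectiveDimensionLT_of_iso e.symm (n + 1)

variable {X Y : Scheme.{u}} (f : X ⟶ Y)

theorem exists_isRegular_ker (hf : Mor2.IsRegularClosedImmersion f) (x : X) :
    ∃ rs : List (Y.presheaf.stalk (f x)),
      IsRegular (Y.presheaf.stalk (f x)) rs ∧ RingHom.ker (f.stalkMap x).hom = Ideal.ofList rs := by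
  haveI := hf.1
  obtain ⟨U, hU, hz, rs, hrs, hker⟩ := hf.2 x
  rw [Scheme.Hom.ker_apply] at hker
  let := Y.presheaf.algebra_section_stalk ⟨f x, hz⟩
  have := hU.isLocalization_stalk ⟨f x, hz⟩
  haveI : Module.Flat Γ(Y, U) (Y.presheaf.stalk (f x)) :=
    IsLocalization.flat _ (hU.primeIdealOf ⟨f x, hz⟩).asIdeal.primeCompl
  haveI : IsClosedImmersion (f ∣_ U) := IsZariskiLocalAtTarget.restrict ‹_› U
  have hw : IsWeaklyRegular (Y.presheaf.stalk (f x))
      (rs.map (Y.presheaf.germ U (f x) hz).hom) :=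
    IsWeaklyRegular.of_flat (S := Y.presheaf.stalk (f x)) hrs.toIsWeaklyRegular
  have hk : RingHom.ker (f.stalkMap x).hom = Ideal.ofList (rs.map (Y.presheaf.germ U (f x) hz).hom) := by
    rw [CAlgH.RegImmStalk.ker_stalkMap_eq f x hU hz, hker, Ideal.map_ofList]
  refine ⟨_, ⟨hw, ?_⟩, hk⟩
  rw [smul_eq_mul, Ideal.mul_top, ← hk]
  exact (RingHom.ker_ne_top _).symm

variable [IsLocallyNoetherian Y]

/-- Direct images of vector bundles have finite projective dimension at every stalk. -/
theorem exists_LT_push (hf : Mor2.IsRegularClosedImmersion f) {F : X.Modules} (hF : FlatMod.IsFinLocFree F)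
    (y : Y) : ∃ d : ℕ, HasProjectiveDimensionLT (st y ((Scheme.Modules.pushforward f).obj F)) (d + 1) := by
  haveI := hf.1
  haveI : IsLocallyNoetherian X := LocallyOfFiniteType.isLocallyNoetherian f
  by_cases hy : y ∈ Set.range f.base
  · obtain ⟨x, rfl⟩ := hy
    obtain ⟨rs, hrs, hker⟩ := exists_isRegular_ker f hf x
    obtain ⟨e⟩ := FlatCx12.PushStalk.nonempty_stalkPushIso f x
    have hFq := CAlgH3.LocFreeFactor.isQCoh_of_finLocFree hF
    haveI : Module.Free (X.presheaf.stalk x) (F.presheaf.stalk x) := Props12.free_stalk_of_isFinLocFree F hF x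
    haveI : Module.Finite (X.presheaf.stalk x) (F.presheaf.stalk x) :=
      AssSch12.finite_stalk (Coherent.CohBC.isCoh_of_isFinLocFree hF) x
    let m := Module.finrank (X.presheaf.stalk x) (F.presheaf.stalk x)
    let b : (st x F : Type u) ≃ₗ[X.presheaf.stalk x] (Fin m → X.presheaf.stalk x) :=
      (Module.finBasis (X.presheaf.stalk x) (F.presheaf.stalk x)).equivFun
    let φ := (f.stalkMap x).hom
    let q : (Y.presheaf.stalk (f x) ⧸ Ideal.ofList rs) ≃+* X.presheaf.stalk x :=
      (Ideal.quotEquivOfEq hker.symm).trans (RingHom.quotientKerEquivOfSurjective (f.stalkMap_surjective x))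
    let c : ((ModuleCat.restrictScalars φ).obj (ModuleCat.of (X.presheaf.stalk x) (Fin m → X.presheaf.stalk x))) ≅
        ModuleCat.of (Y.presheaf.stalk (f x)) (Fin m → (Y.presheaf.stalk (f x) ⧸ Ideal.ofList rs)) :=
      LinearEquiv.toModuleIso (({
        toFun := fun v i => q.symm (v i)
        invFun := fun v i => q (v i)
        left_inv := fun v => funext fun i => q.apply_symm_apply _
        right_inv := fun v => funext fun i => q.symm_apply_apply _
        map_add' := fun v w => funext fun i => map_add q.symm _ _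
        map_smul' := fun r v => funext fun i => by
          apply q.injective
          show q (q.symm (φ r * v i)) = q (Ideal.Quotient.mk _ r * q.symm (v i))
          refine (q.apply_symm_apply _).trans (Eq.trans ?_ (map_mul q _ _).symm)
          exact congrArg₂ (· * ·) rfl (q.apply_symm_apply _).symm } :
        ((ModuleCat.restrictScalars φ).obj (ModuleCat.of (X.presheaf.stalk x) (Fin m → X.presheaf.stalk x)) : Type u)
          ≃ₗ[Y.presheaf.stalk (f x)] (Fin m → (Y.presheaf.stalk (f x) ⧸ Ideal.ofList rs))))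
    haveI := pd_pi _ (pd_quot rs hrs) m
    exact ⟨rs.length, hasProjectiveDimensionLT_of_iso
      (e.app F ≪≫ (ModuleCat.restrictScalars φ).mapIso b.toModuleIso ≪≫ c).symm (rs.length + 1)⟩
  · haveI := DCat.ClosedPush.subsingleton_stalk_push f F y hy
    haveI := (ModuleCat.isZero_of_subsingleton (st y ((Scheme.Modules.pushforward f).obj F))).hasProjectiveDimensionLT_zero
    exact ⟨0, hasProjectiveDimensionLT_of_ge _ 0 1 (Nat.zero_le _)⟩

theorem cohBdd_push [CompactSpace Y] (hY : KRR.HasEnoughLocFree Y) (hf : Mor2.IsRegularClosedImmersion f)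
    {F : X.Modules} (hF : FlatMod.IsFinLocFree F) :
    cohBdd Y ((Scheme.Modules.pushforward f).obj F) := by
  classical
  haveI := hf.1
  haveI : IsLocallyNoetherian X := LocallyOfFiniteType.isLocallyNoetherian f
  have hA : Coh.IsCoh ((Scheme.Modules.pushforward f).obj F) :=
    Coherent.isCoh_push_finite f (Coherent.CohBC.isCoh_of_isFinLocFree hF)
  have h : ∀ y : Y, ∃ (d : ℕ) (U : Y.Opens), y ∈ U ∧
      ∀ z ∈ U, HasProjectiveDimensionLT (st z ((Scheme.Modules.pushforward f).obj F)) (d + 1) := fun y => by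
    obtain ⟨d, hd⟩ := exists_LT_push f hf hF y
    exact ⟨d, exists_nhd_LT hY d _ hA y hd⟩
  choose d U hxU hU using h
  obtain ⟨s, hs⟩ := isCompact_univ.elim_finite_subcover (fun x => (U x : Set Y)) (fun x => (U x).isOpen)
    (fun x _ => Set.mem_iUnion.2 ⟨x, hxU x⟩)
  refine ⟨hA, s.sup d, fun y => ?_⟩
  obtain ⟨x, hx, hy⟩ := Set.mem_iUnion₂.1 (hs (Set.mem_univ y))
  exact LT_mono y _ (hU x y hy) (by have := Finset.le_sup (f := d) hx; omega)

omit [IsLocallyNoetherian Y] in
theorem shortExact_push [IsClosedImmersion f] {S : ShortComplex X.Modules} (hS : S.ShortExact) :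
    (S.map (Scheme.Modules.pushforward f)).ShortExact := by
  haveI : PreservesFiniteColimits (Scheme.Modules.pushforward f) :=
    Coherent.preservesFiniteColimits_push f
  haveI : PreservesFiniteLimits (Scheme.Modules.pushforward f) :=
    haveI := (Scheme.Modules.pullbackPushforwardAdjunction f).rightAdjoint_preservesLimits
      (G := Scheme.Modules.pushforward f)
    inferInstance
  exact hS.map_of_exact _

theorem cohBdd_of_finLocFree {M : Y.Modules} (h : FlatMod.IsFinLocFree M) : cohBdd Y M :=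
  ⟨Coherent.CohBC.isCoh_of_isFinLocFree h, bdd_of_finLocFree h⟩

theorem cohBdd_kernel {U V : Y.Modules} (g : U ⟶ V) [Epi g] (hU : cohBdd Y U) (hV : cohBdd Y V) :
    cohBdd Y (kernel g) := by
  obtain ⟨cU, dU, hU⟩ := hU
  obtain ⟨cV, dV, hV⟩ := hV
  exact ⟨isCoh_kernel' g cU cV, dU + dV, fun x => (st_shortExact x (ses_kernel g)).hasProjectiveDimensionLT_X₁ _
    (LT_mono x _ (hU x) (by omega)) (LT_mono x _ (hV x) (by omega))⟩

/-- Alternating sum along an exact sequence ending in an epimorphism, in `K₀` of `cohBdd`. -/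
theorem sum_alt_cohBdd :
    ∀ (N : ℕ) (D : ℕ → Y.Modules) (g : ∀ p, D (p + 1) ⟶ D p) (w : ∀ p, g (p + 1) ≫ g p = 0),
      (∀ p, (ShortComplex.mk (g (p + 1)) (g p) (w p)).Exact) → Epi (g 0) → (∀ p, cohBdd Y (D p)) →
      (∀ p, N < p → IsZero (D p)) →
      ∑ p ∈ Finset.range (N + 1), ((-1 : ℤ) ^ p) • KZero.clSub (cohBdd Y) (D p) = 0 := by
  intro N
  induction N with
  | zero =>
    intro D g w _ h0 hP hz
    haveI := h0
    have hD0 : IsZero (D 0) := IsZero.of_epi (g 0) (hz 1 one_pos)
    haveI : (cohBdd Y).ContainsZero :=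
      ⟨⟨D 0, hD0, hP 0⟩⟩
    rw [Finset.sum_range_one, KZeroLib.clSub_isZero hD0, smul_zero]
  | succ N ih =>
    intro D f w hex h0 hP hz
    haveI := h0
    let D' : ℕ → Y.Modules := fun p => match p with
      | 0 => kernel (f 0)
      | q + 1 => D (q + 2)
    let f' : ∀ p, D' (p + 1) ⟶ D' p := fun p => match p with
      | 0 => kernel.lift (f 0) (f 1) (w 0)
      | q + 1 => f (q + 2)
    have w' : ∀ p, f' (p + 1) ≫ f' p = 0 := fun p => match p with
      | 0 => (cancel_mono (kernel.ι (f 0))).1 (by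
          show (f 2 ≫ kernel.lift (f 0) (f 1) (w 0)) ≫ _ = _
          rw [Category.assoc, kernel.lift_ι, zero_comp]; exact w 1)
      | q + 1 => w (q + 2)
    have hex' : ∀ p, (ShortComplex.mk (f' (p + 1)) (f' p) (w' p)).Exact := fun p => match p with
      | 0 => by
          let φ : ShortComplex.mk (f' 1) (f' 0) (w' 0) ⟶ ShortComplex.mk (f 2) (f 1) (w 1) :=
            { τ₁ := 𝟙 _, τ₂ := 𝟙 _, τ₃ := kernel.ι (f 0)
              comm₁₂ := by simp [f']
              comm₂₃ := by simp [f'] }
          haveI : Epi φ.τ₁ := inferInstanceAs (Epi (𝟙 _))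
          haveI : IsIso φ.τ₂ := inferInstanceAs (IsIso (𝟙 _))
          haveI : Mono φ.τ₃ := inferInstanceAs (Mono (kernel.ι (f 0)))
          exact (ShortComplex.exact_iff_of_epi_of_isIso_of_mono φ).2 (hex 1)
      | q + 1 => hex (q + 2)
    have h0' : Epi (f' 0) := (ShortComplex.exact_iff_epi_kernel_lift _).1 (hex 0)
    have hP' : ∀ p, cohBdd Y (D' p) := fun p => match p with
      | 0 => cohBdd_kernel (f 0) (hP 1) (hP 0)
      | q + 1 => hP (q + 2)
    have hz' : ∀ p, N < p → IsZero (D' p) := fun p hp => match p, hp with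
      | q + 1, hp => hz (q + 2) (by omega)
    have hS : (ShortComplex.mk (kernel.ι (f 0)) (f 0) (kernel.condition _)).ShortExact :=
      ShortComplex.ShortExact.mk' (ShortComplex.exact_of_f_is_kernel _ (kernelIsKernel _)) inferInstance h0
    have h1 : KZero.clSub (cohBdd Y) (D 1) = KZero.clSub (cohBdd Y) (kernel (f 0)) + KZero.clSub (cohBdd Y) (D 0) :=
      Resolution28.clSub_rel hS (hP' 0) (hP 1) (hP 0)
    have hih := ih D' f' w' hex' h0' hP' hz'
    rw [Finset.sum_range_succ' _ N] at hih
    rw [Finset.sum_range_succ' _ (N + 1), Finset.sum_range_succ' _ N, zero_add, pow_one, h1]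
    simp only [D', pow_zero, one_smul] at hih
    simp only [pow_zero, one_smul, pow_succ, mul_neg_one, neg_mul, neg_neg, mul_one, neg_smul,
      Finset.sum_neg_distrib, add_assoc, Nat.reduceAdd] at hih ⊢
    linear_combination (norm := module) -hih

/-- The class of a module with a finite resolution. -/
theorem cl_eq_sum {A : Y.Modules} (hA : cohBdd Y A) (n : ℕ) (L : ChainComplex Y.Modules ℕ)
    (π : L ⟶ (ChainComplex.single₀ Y.Modules).obj A) (hL : KRR.IsLFRes A n L π) :
    KZero.clSub (cohBdd Y) A = ∑ k ∈ Finset.range (n + 1), (-1 : ℤ) ^ k • KZero.clSub (cohBdd Y) (L.X k) := by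
  haveI := hL.quasiIso
  obtain ⟨hex0, hepi⟩ := (ShortComplex.quasiIso_iff_of_zeros' _ (L.shape 0 0 (by simp)) (by rfl) (by rfl)).1
    ((ChainComplex.quasiIsoAt₀_iff π).1 inferInstance)
  let D : ℕ → Y.Modules := fun p => match p with
    | 0 => A
    | q + 1 => L.X q
  let g : ∀ p, D (p + 1) ⟶ D p := fun p => match p with
    | 0 => π.f 0
    | q + 1 => L.d (q + 1) q
  have w : ∀ p, g (p + 1) ≫ g p = 0 := fun p => match p with
    | 0 => by
        show L.d 1 0 ≫ π.f 0 = 0
        rw [← π.comm 1 0, HomologicalComplex.single_obj_d, comp_zero]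
    | q + 1 => L.d_comp_d _ _ _
  have hex : ∀ p, (ShortComplex.mk (g (p + 1)) (g p) (w p)).Exact := fun p => match p with
    | 0 => hex0
    | q + 1 => (L.exactAt_iff' (q + 2) (q + 1) q (by simp) (by simp)).1
        ((quasiIsoAt_iff_exactAt' π (q + 1) (ChainComplex.exactAt_succ_single_obj _ _)).1 inferInstance)
  have hP : ∀ p, cohBdd Y (D p) := fun p => match p with
    | 0 => hA
    | q + 1 => cohBdd_of_finLocFree (hL.finLocFree q)
  have hz : ∀ p, n + 1 < p → IsZero (D p) := fun p hp => match p, hp with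
    | q + 1, hp => hL.isZero q (by omega)
  have h := sum_alt_cohBdd (n + 1) D g w hex hepi hP hz
  rw [Finset.sum_range_succ', pow_zero, one_smul] at h
  have h2 := eq_neg_of_add_eq_zero_right h
  refine h2.trans ?_
  rw [← Finset.sum_neg_distrib]
  refine Finset.sum_congr rfl fun k _ => ?_
  rw [pow_succ, mul_neg_one, neg_smul, neg_neg]

/-- The pushforward on `K` of vector bundles along a regular closed immersion. -/
theorem exists_push [CompactSpace Y] (hY : KRR.HasEnoughLocFree Y) (hf : Mor2.IsRegularClosedImmersion f) :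
    ∃ q : SGA6.Kvb X →+ SGA6.Kvb Y, ∀ F : X.Modules, FlatMod.IsFinLocFree F → ∀ (n : ℕ)
      (L : ChainComplex Y.Modules ℕ) (π : L ⟶ (ChainComplex.single₀ Y.Modules).obj ((Scheme.Modules.pushforward f).obj F)),
      KRR.IsLFRes ((Scheme.Modules.pushforward f).obj F) n L π →
        q (KRR.cl X F) = ∑ k ∈ Finset.range (n + 1), (-1 : ℤ) ^ k • KRR.cl Y (L.X k) := by
  haveI := hf.1
  have hle : ∀ M : Y.Modules, FlatMod.IsFinLocFree M → cohBdd Y M := fun M h => cohBdd_of_finLocFree h
  let e := AddEquiv.ofBijective _ (bijective_cohBdd hY hle)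
  obtain ⟨P, hP⟩ := KvbLam28.exists_lift (X := X)
    (fun E => KZero.clSub (cohBdd Y) ((Scheme.Modules.pushforward f).obj E)) fun S hS h₁ h₂ h₃ =>
      Resolution28.clSub_rel (shortExact_push f hS) (cohBdd_push f hY hf h₁) (cohBdd_push f hY hf h₂)
        (cohBdd_push f hY hf h₃)
  refine ⟨e.symm.toAddMonoidHom.comp P, fun F hF n L π hL => ?_⟩
  show e.symm (P (KRR.cl X F)) = _
  rw [AddEquiv.symm_apply_eq, hP F hF, cl_eq_sum (cohBdd_push f hY hf hF) n L π hL, map_sum]
  refine Finset.sum_congr rfl fun k _ => ?_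
  rw [map_zsmul]
  exact congrArg _ (mapSub_clSub _ _ hle (hL.finLocFree k)).symm

/-- Every direct image of a vector bundle has a finite resolution. -/
theorem hasLFRes_push [CompactSpace Y] (hY : KRR.HasEnoughLocFree Y) (hf : Mor2.IsRegularClosedImmersion f)
    {F : X.Modules} (hF : FlatMod.IsFinLocFree F) : KRR.HasLFRes ((Scheme.Modules.pushforward f).obj F) := by
  obtain ⟨h, d, hd⟩ := cohBdd_push f hY hf hF
  exact hasLFRes_of_bdd hY d _ h hd

/-- Existence and uniqueness of the pushforward on models. -/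
theorem existsUnique_isPushCl [CompactSpace Y] (hY : KRR.HasEnoughLocFree Y)
    (hf : Mor2.IsRegularClosedImmersion f) {KX : Type v} {KY : Type w} [CommRing KX] [CommRing KY]
    (φX : SGA6.Kvb X →+ KX) (hX : Function.Bijective φX) (φY : SGA6.Kvb Y →+ KY) :
    ∃! h : KX →+ KY, KRR.IsPushCl f φX φY h := by
  obtain ⟨q, hq⟩ := exists_push f hY hf
  let e := AddEquiv.ofBijective φX hX
  refine ⟨φY.comp (q.comp e.symm.toAddMonoidHom), fun F hF n L π hL => ?_, fun g hg => ?_⟩
  · show φY (q (e.symm (φX (KRR.cl X F)))) = _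
    rw [show e.symm (φX (KRR.cl X F)) = KRR.cl X F from e.symm_apply_apply _, hq F hF n L π hL, map_sum]
    exact Finset.sum_congr rfl fun k _ => map_zsmul φY _ _
  · refine AddMonoidHom.ext fun y => ?_
    obtain ⟨x, rfl⟩ := hX.2 y
    show g (φX x) = φY (q (e.symm (φX x)))
    rw [show e.symm (φX x) = x from e.symm_apply_apply _]
    refine KvbLam28.kvb_induction (P := fun x => g (φX x) = φY (q x)) (by simp) ?_ ?_ ?_ x
    · intro E hE
      obtain ⟨n, L, π, hL⟩ := hasLFRes_push f hY hf hE
      refine (hg E hE n L π hL).trans ?_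
      rw [show q (KRR.cl X E) = _ from hq E hE n L π hL, map_sum]
      exact Finset.sum_congr rfl fun k _ => (map_zsmul φY _ _).symm
    · intro a h; simp only [map_neg, h]
    · intro a b ha hb; simp only [map_add, ha, hb]

end Groth.Agent.KPush28
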