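import Groth.Agent.KPush28.Ops
import Groth.Agent.KPull28.Basic

/-!
# Pullback of a resolution away from the support
-/

set_option autoImplicit false
set_option backward.isDefEq.respectTransparency false
set_option linter.style.haveILetI false

universe u v w

open CategoryTheory CategoryTheory.Limits AlgebraicGeometry
open Groth.Agent.ResLF28

noncomputable section

namespace Groth.Agent.KPush28

theorem clSub_of_isZero' {A : Type v} [Category.{w} A] [Abelian A] {P : ObjectProperty A} {Z : A} (hZ : IsZero Z) :
    KZero.clSub P Z = 0 := by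
  by_cases h : P Z
  · have hS : (ShortComplex.mk (0 : Z ⟶ Z) (0 : Z ⟶ Z) comp_zero).ShortExact :=
      ShortComplex.ShortExact.mk' (ShortComplex.exact_of_isZero_X₂ _ hZ)
        ⟨fun _ _ _ => hZ.eq_of_tgt _ _⟩ ⟨fun _ _ _ => hZ.eq_of_src _ _⟩
    simpa using Resolution28.clSub_rel (P := P) hS h h h
  · rw [KZero.clSub, dif_neg h]

theorem finLocFree_kernel {V : Scheme.{u}} [IsLocallyNoetherian V] {A B : V.Modules} (g : A ⟶ B) [Epi g]
    (hA : FlatMod.IsFinLocFree A) (hB : FlatMod.IsFinLocFree B) : FlatMod.IsFinLocFree (kernel g) :=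
  isFinLocFree_of_LT_one
    (isCoh_kernel' g (Coherent.CohBC.isCoh_of_isFinLocFree hA) (Coherent.CohBC.isCoh_of_isFinLocFree hB))
    fun x => (st_shortExact x (ses_kernel g)).hasProjectiveDimensionLT_X₁ 1
      (LT_one_of_finLocFree hA x) (LT_mono x _ (LT_one_of_finLocFree hB x) (by omega))

/-- If a resolved module vanishes on an open set, the alternating sum of its resolution dies after pullback
through that open set. -/
theorem sum_pull_eq_zero {Z M : Scheme.{u}} [IsLocallyNoetherian M] (h : Z ⟶ M) {V : M.Opens}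
    (hV : Set.range h.base ⊆ Set.range V.ι.base) (A : M.Modules)
    (hA : ∀ v : V, Subsingleton (st v.1 A : Type u)) (n : ℕ) (L : ChainComplex M.Modules ℕ)
    (π : L ⟶ (ChainComplex.single₀ M.Modules).obj A) (hL : KRR.IsLFRes A n L π) :
    ∑ k ∈ Finset.range (n + 1), (-1 : ℤ) ^ k • KRR.cl Z ((Scheme.Modules.pullback h).obj (L.X k)) = 0 := by
  let j := V.ι
  let h' : Z ⟶ V.toScheme := IsOpenImmersion.lift j h hV
  have fac : h' ≫ j = h := IsOpenImmersion.lift_fac _ _ _
  haveI : IsLocallyNoetherian V.toScheme := isLocallyNoetherian_of_isOpenImmersion j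
  haveI : PreservesFiniteLimits (Scheme.Modules.pullback j) := DCat.FlatPull.preservesFiniteLimits_pullback j
  haveI := hL.quasiIso
  obtain ⟨hex0, hepi⟩ := (ShortComplex.quasiIso_iff_of_zeros' _ (L.shape 0 0 (by simp)) (by rfl) (by rfl)).1
    ((ChainComplex.quasiIsoAt₀_iff π).1 inferInstance)
  let D : ℕ → V.toScheme.Modules := fun p => match p with
    | 0 => (Scheme.Modules.pullback j).obj A
    | q + 1 => (Scheme.Modules.pullback j).obj (L.X q)
  let g : ∀ p, D (p + 1) ⟶ D p := fun p => match p with
    | 0 => (Scheme.Modules.pullback j).map (π.f 0)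
    | q + 1 => (Scheme.Modules.pullback j).map (L.d (q + 1) q)
  have hw0 : L.d 1 0 ≫ π.f 0 = 0 := by
    rw [← π.comm 1 0, HomologicalComplex.single_obj_d, comp_zero]
  have w : ∀ p, g (p + 1) ≫ g p = 0 := fun p => match p with
    | 0 => ((Scheme.Modules.pullback j).map_comp _ _).symm.trans
        ((congrArg (Scheme.Modules.pullback j).map hw0).trans ((Scheme.Modules.pullback j).map_zero _ _))
    | q + 1 => ((Scheme.Modules.pullback j).map_comp _ _).symm.trans
        ((congrArg (Scheme.Modules.pullback j).map (L.d_comp_d _ _ _)).trans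
          ((Scheme.Modules.pullback j).map_zero _ _))
  have hex : ∀ p, (ShortComplex.mk (g (p + 1)) (g p) (w p)).Exact := fun p => match p with
    | 0 => hex0.map (Scheme.Modules.pullback j)
    | q + 1 => ((L.exactAt_iff' (q + 2) (q + 1) q (by simp) (by simp)).1
        ((quasiIsoAt_iff_exactAt' π (q + 1) (ChainComplex.exactAt_succ_single_obj _ _)).1 inferInstance)).map
          (Scheme.Modules.pullback j)
  have hD0 : IsZero (D 0) := ModStalk.isZero_of_stalks fun v => by
    haveI : Subsingleton (st (j.base v) A : Type u) := hA v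
    exact IsZero.of_iso ((ModuleCat.extendScalars (j.stalkMap v).hom).map_isZero
      (ModuleCat.isZero_of_subsingleton (st (j.base v) A))) ((ModStalk.pullbackStalkIso j v).app A)
  have hepi' : Epi (g 0) := ⟨fun _ _ _ => hD0.eq_of_src _ _⟩
  have hP : ∀ p, FlatMod.IsFinLocFree (D p) := fun p => match p with
    | 0 => fun x => by
        refine isFinLocFree_of_LT_one (SerreDual.isCoh_of_isZero hD0) (fun x => ?_) x
        haveI := ((DerSch.stalkFunctor V.toScheme x).map_isZero hD0).hasProjectiveDimensionLT_zero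
        exact hasProjectiveDimensionLT_of_ge _ 0 1 (by omega)
    | q + 1 => FlatMorAdm.isFinLocFree_pullback j (hL.finLocFree q)
  have hz : ∀ p, n + 1 < p → IsZero (D p) := fun p hp => match p, hp with
    | q + 1, hp => (Scheme.Modules.pullback j).map_isZero (hL.isZero q (by omega))
  have key := sum_alt_map_eq_zero (P := fun M : V.toScheme.Modules => FlatMod.IsFinLocFree M)
    (fun g => finLocFree_kernel g) (fun M => KRR.cl Z ((Scheme.Modules.pullback h').obj M))
    (fun S hS h₁ h₂ h₃ => ExtFilt28.clv_ses (KPull28.shortExact_pullback h' hS h₃)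
      (FlatMorAdm.isFinLocFree_pullback h' h₁) (FlatMorAdm.isFinLocFree_pullback h' h₂)
      (FlatMorAdm.isFinLocFree_pullback h' h₃)) (n + 1) D g w hex hepi' hP hz
  rw [Finset.sum_range_succ', pow_zero, one_smul,
    show KRR.cl Z ((Scheme.Modules.pullback h').obj (D 0)) = 0 from
      clSub_of_isZero' ((Scheme.Modules.pullback h').map_isZero hD0), add_zero] at key
  rw [← neg_eq_zero, ← Finset.sum_neg_distrib]
  refine Eq.trans (Finset.sum_congr rfl fun k _ => ?_) key
  rw [pow_succ, mul_neg_one, neg_smul]
  refine congrArg (fun t => -((-1 : ℤ) ^ k • t)) (ExtFilt28.clv_iso ?_)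
  exact (Scheme.Modules.pullbackCongr fac.symm).app _ ≪≫ ((Scheme.Modules.pullbackComp h' j).app _).symm

end Groth.Agent.KPush28
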