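import Groth.Agent.KPush28.Basic
import Groth.Agent.VarietyLib.TensorExact
import Groth.Agent.Coherent.TensorQcoh

/-!
# Functoriality of the pushforward on K of vector bundles
-/

set_option autoImplicit false
set_option backward.isDefEq.respectTransparency false
set_option linter.style.haveILetI false

universe u v w

open CategoryTheory CategoryTheory.Limits AlgebraicGeometry Groth.Agent.ModStalk
open Groth.Agent.ResLF28

noncomputable section

namespace Groth.Agent.KPush28

section Alt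

variable {A : Type v} [Category.{w} A] [Abelian A] {P : ObjectProperty A} {G : Type u} [AddCommGroup G]

/-- A function additive on short exact sequences has zero alternating sum along exact sequences. -/
theorem sum_alt_map_eq_zero (hker : ∀ {U V : A} (g : U ⟶ V) [Epi g], P U → P V → P (kernel g)) (Φ : A → G)
    (hΦ : ∀ S : ShortComplex A, S.ShortExact → P S.X₁ → P S.X₂ → P S.X₃ → Φ S.X₂ = Φ S.X₁ + Φ S.X₃) :
    ∀ (N : ℕ) (D : ℕ → A) (f : ∀ p, D (p + 1) ⟶ D p) (w : ∀ p, f (p + 1) ≫ f p = 0),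
      (∀ p, (ShortComplex.mk (f (p + 1)) (f p) (w p)).Exact) → Epi (f 0) → (∀ p, P (D p)) →
      (∀ p, N < p → IsZero (D p)) →
      ∑ p ∈ Finset.range (N + 1), ((-1 : ℤ) ^ p) • Φ (D p) = 0 := by
  intro N
  induction N with
  | zero =>
    intro D f w _ h0 hP hz
    haveI := h0
    have hD0 : IsZero (D 0) := IsZero.of_epi (f 0) (hz 1 one_pos)
    have hS : (ShortComplex.mk (0 : D 0 ⟶ D 0) (0 : D 0 ⟶ D 0) comp_zero).ShortExact :=
      ShortComplex.ShortExact.mk' (ShortComplex.exact_of_isZero_X₂ _ hD0)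
        ⟨fun _ _ _ => hD0.eq_of_tgt _ _⟩ ⟨fun _ _ _ => hD0.eq_of_src _ _⟩
    have h := hΦ _ hS (hP 0) (hP 0) (hP 0)
    rw [Finset.sum_range_one, pow_zero, one_smul]
    simpa using h
  | succ N ih =>
    intro D f w hex h0 hP hz
    haveI := h0
    let D' : ℕ → A := fun p => match p with
      | 0 => kernel (f 0)
      | q + 1 => D (q + 2)
    let f' : ∀ p, D' (p + 1) ⟶ D' p := fun p => match p with
      | 0 => kernel.lift (f 0) (f 1) (w 0)
      | q + 1 => f (q + 2)
    have w' : ∀ p, f' (p + 1) ≫ f' p = 0 := fun p => match p with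
      | 0 => (cancel_mono (kernel.ι (f 0))).1 (by
          show (f 2 ≫ kernel.lift (f 0) (f 1) (w 0)) ≫ _ = _
          rw [Category.assoc, kernel.lift_ι, zero_comp]; exact w 1)
      | q + 1 => w (q + 2)
    have hex' : ∀ p, (ShortComplex.mk (f' (p + 1)) (f' p) (w' p)).Exact := fun p => match p with
      | 0 => by
          let φ : ShortComplex.mk (f' 1) (f' 0) (w' 0) ⟶ ShortComplex.mk (f 2) (f 1) (w 1) :=
            { τ₁ := 𝟙 _, τ₂ := 𝟙 _, τ₃ := kernel.ι (f 0)
              comm₁₂ := by simp [f']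
              comm₂₃ := by simp [f'] }
          haveI : Epi φ.τ₁ := inferInstanceAs (Epi (𝟙 _))
          haveI : IsIso φ.τ₂ := inferInstanceAs (IsIso (𝟙 _))
          haveI : Mono φ.τ₃ := inferInstanceAs (Mono (kernel.ι (f 0)))
          exact (ShortComplex.exact_iff_of_epi_of_isIso_of_mono φ).2 (hex 1)
      | q + 1 => hex (q + 2)
    have h0' : Epi (f' 0) := (ShortComplex.exact_iff_epi_kernel_lift _).1 (hex 0)
    have hP' : ∀ p, P (D' p) := fun p => match p with
      | 0 => hker (f 0) (hP 1) (hP 0)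
      | q + 1 => hP (q + 2)
    have hz' : ∀ p, N < p → IsZero (D' p) := fun p hp => match p, hp with
      | q + 1, hp => hz (q + 2) (by omega)
    have hS : (ShortComplex.mk (kernel.ι (f 0)) (f 0) (kernel.condition _)).ShortExact :=
      ShortComplex.ShortExact.mk' (ShortComplex.exact_of_f_is_kernel _ (kernelIsKernel _)) inferInstance h0
    have h1 : Φ (D 1) = Φ (kernel (f 0)) + Φ (D 0) := hΦ _ hS (hP' 0) (hP 1) (hP 0)
    have hih := ih D' f' w' hex' h0' hP' hz'
    rw [Finset.sum_range_succ' _ N] at hih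
    rw [Finset.sum_range_succ' _ (N + 1), Finset.sum_range_succ' _ N, zero_add, pow_one, h1]
    simp only [D', pow_zero, one_smul] at hih
    simp only [pow_zero, one_smul, pow_succ, mul_neg_one, neg_neg, neg_smul,
      Finset.sum_neg_distrib, add_assoc, Nat.reduceAdd] at hih ⊢
    linear_combination (norm := module) -hih

/-- A function additive on short exact sequences of objects in `P` respects isomorphisms. -/
theorem map_iso_of_additive (Φ : A → G)
    (hΦ : ∀ S : ShortComplex A, S.ShortExact → P S.X₁ → P S.X₂ → P S.X₃ → Φ S.X₂ = Φ S.X₁ + Φ S.X₃)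
    {Z M N : A} (hZ : IsZero Z) (pZ : P Z) (pM : P M) (pN : P N) (e : M ≅ N) : Φ M = Φ N := by
  have hS : (ShortComplex.mk (0 : Z ⟶ M) e.hom zero_comp).ShortExact := by
    haveI : Mono (0 : Z ⟶ M) := ⟨fun _ _ _ => hZ.eq_of_tgt _ _⟩
    exact ShortComplex.ShortExact.mk' ((ShortComplex.exact_iff_mono _ rfl).2 inferInstance) ‹_› inferInstance
  have h0 : Φ Z = 0 := by
    have hS : (ShortComplex.mk (0 : Z ⟶ Z) (0 : Z ⟶ Z) comp_zero).ShortExact :=
      ShortComplex.ShortExact.mk' (ShortComplex.exact_of_isZero_X₂ _ hZ)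
        ⟨fun _ _ _ => hZ.eq_of_tgt _ _⟩ ⟨fun _ _ _ => hZ.eq_of_src _ _⟩
    simpa using hΦ _ hS pZ pZ pZ
  simpa [h0] using hΦ _ hS pZ pM pN

end Alt

section Res

variable {Y : Scheme.{u}} [IsLocallyNoetherian Y] {G : Type w} [AddCommGroup G]

/-- A function additive on `cohBdd` evaluated on a resolved module. -/
theorem map_eq_sum (Φ : Y.Modules → G)
    (hΦ : ∀ S : ShortComplex Y.Modules, S.ShortExact → cohBdd Y S.X₁ → cohBdd Y S.X₂ → cohBdd Y S.X₃ →
      Φ S.X₂ = Φ S.X₁ + Φ S.X₃)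
    {A : Y.Modules} (hA : cohBdd Y A) (n : ℕ) (L : ChainComplex Y.Modules ℕ)
    (π : L ⟶ (ChainComplex.single₀ Y.Modules).obj A) (hL : KRR.IsLFRes A n L π) :
    Φ A = ∑ k ∈ Finset.range (n + 1), (-1 : ℤ) ^ k • Φ (L.X k) := by
  haveI := hL.quasiIso
  obtain ⟨hex0, hepi⟩ := (ShortComplex.quasiIso_iff_of_zeros' _ (L.shape 0 0 (by simp)) (by rfl) (by rfl)).1
    ((ChainComplex.quasiIsoAt₀_iff π).1 inferInstance)
  let D : ℕ → Y.Modules := fun p => match p with
    | 0 => A
    | q + 1 => L.X q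
  let g : ∀ p, D (p + 1) ⟶ D p := fun p => match p with
    | 0 => π.f 0
    | q + 1 => L.d (q + 1) q
  have w : ∀ p, g (p + 1) ≫ g p = 0 := fun p => match p with
    | 0 => by
        show L.d 1 0 ≫ π.f 0 = 0
        rw [← π.comm 1 0, HomologicalComplex.single_obj_d, comp_zero]
    | q + 1 => L.d_comp_d _ _ _
  have hex : ∀ p, (ShortComplex.mk (g (p + 1)) (g p) (w p)).Exact := fun p => match p with
    | 0 => hex0
    | q + 1 => (L.exactAt_iff' (q + 2) (q + 1) q (by simp) (by simp)).1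
        ((quasiIsoAt_iff_exactAt' π (q + 1) (ChainComplex.exactAt_succ_single_obj _ _)).1 inferInstance)
  have hP : ∀ p, cohBdd Y (D p) := fun p => match p with
    | 0 => hA
    | q + 1 => cohBdd_of_finLocFree (hL.finLocFree q)
  have hz : ∀ p, n + 1 < p → IsZero (D p) := fun p hp => match p, hp with
    | q + 1, hp => hL.isZero q (by omega)
  have h := sum_alt_map_eq_zero (fun g => cohBdd_kernel g) Φ hΦ (n + 1) D g w hex hepi hP hz
  rw [Finset.sum_range_succ', pow_zero, one_smul] at h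
  refine (eq_neg_of_add_eq_zero_right h).trans ?_
  rw [← Finset.sum_neg_distrib]
  refine Finset.sum_congr rfl fun k _ => ?_
  rw [pow_succ, mul_neg_one, neg_smul, neg_neg]

theorem exists_lfRes (hY : KRR.HasEnoughLocFree Y) {A : Y.Modules} (hA : cohBdd Y A) :
    ∃ (n : ℕ) (L : ChainComplex Y.Modules ℕ) (π : L ⟶ (ChainComplex.single₀ Y.Modules).obj A),
      KRR.IsLFRes A n L π :=
  hasLFRes_of_bdd hY hA.2.choose A hA.1 hA.2.choose_spec

variable (Y) in
/-- `K₀` of vector bundles to `K₀` of coherent modules of bounded projective dimension. -/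
def toBdd : SGA6.Kvb Y →+ KZero.K0sub (cohBdd Y) :=
  SGA6.mapSub (𝟭 Y.Modules) (fun M : Y.Modules => FlatMod.IsFinLocFree M) (cohBdd Y)
    fun _ h => cohBdd_of_finLocFree h

theorem toBdd_cl {M : Y.Modules} (hM : FlatMod.IsFinLocFree M) :
    toBdd Y (KRR.cl Y M) = KZero.clSub (cohBdd Y) M :=
  mapSub_clSub _ _ _ hM

theorem toBdd_bijective (hY : KRR.HasEnoughLocFree Y) : Function.Bijective (toBdd Y) :=
  bijective_cohBdd hY _

variable (Y) in
/-- The class in `K₀` of vector bundles of a coherent module of bounded projective dimension. -/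
def vbCl (hY : KRR.HasEnoughLocFree Y) (A : Y.Modules) : SGA6.Kvb Y :=
  (AddEquiv.ofBijective _ (toBdd_bijective hY)).symm (KZero.clSub (cohBdd Y) A)

theorem toBdd_vbCl (hY : KRR.HasEnoughLocFree Y) (A : Y.Modules) :
    toBdd Y (vbCl Y hY A) = KZero.clSub (cohBdd Y) A :=
  AddEquiv.apply_symm_apply (AddEquiv.ofBijective _ (toBdd_bijective hY)) _

theorem eq_vbCl (hY : KRR.HasEnoughLocFree Y) {A : Y.Modules} {x : SGA6.Kvb Y}
    (h : toBdd Y x = KZero.clSub (cohBdd Y) A) : x = vbCl Y hY A :=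
  (toBdd_bijective hY).1 (h.trans (toBdd_vbCl hY A).symm)

theorem vbCl_eq_sum (hY : KRR.HasEnoughLocFree Y) {A : Y.Modules} (hA : cohBdd Y A) (n : ℕ)
    (L : ChainComplex Y.Modules ℕ) (π : L ⟶ (ChainComplex.single₀ Y.Modules).obj A) (hL : KRR.IsLFRes A n L π) :
    ∑ k ∈ Finset.range (n + 1), (-1 : ℤ) ^ k • KRR.cl Y (L.X k) = vbCl Y hY A := by
  refine eq_vbCl hY ?_
  rw [cl_eq_sum hA n L π hL, map_sum]
  exact Finset.sum_congr rfl fun k _ => by rw [map_zsmul, toBdd_cl (hL.finLocFree k)]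

variable {X : Scheme.{u}} {KX : Type v} {KY : Type w} [CommRing KX] [CommRing KY]

/-- The value of a pushforward on a bundle. -/
theorem isPushCl_apply (hY : KRR.HasEnoughLocFree Y) {f : X ⟶ Y} {φX : SGA6.Kvb X →+ KX} {φY : SGA6.Kvb Y →+ KY}
    {h : KX →+ KY} (hh : KRR.IsPushCl f φX φY h) {F : X.Modules} (hF : FlatMod.IsFinLocFree F)
    (hA : cohBdd Y ((Scheme.Modules.pushforward f).obj F)) :
    h (φX (KRR.cl X F)) = φY (vbCl Y hY ((Scheme.Modules.pushforward f).obj F)) := by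
  obtain ⟨n, L, π, hL⟩ := exists_lfRes hY hA
  rw [hh F hF n L π hL, ← vbCl_eq_sum hY hA n L π hL, map_sum]
  exact Finset.sum_congr rfl fun k _ => (map_zsmul φY _ _).symm

end Res

section Tensor

variable {Y : Scheme.{u}} [IsLocallyNoetherian Y]

theorem cohBdd_tensor {A E : Y.Modules} (hA : cohBdd Y A) (hE : FlatMod.IsFinLocFree E) :
    cohBdd Y (CohB1.tensorMod A E) := by
  have cE := Coherent.CohBC.isCoh_of_isFinLocFree hE
  haveI : Coh.IsQCoh E := cE.1
  obtain ⟨cA, d, hd⟩ := hA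
  haveI : Coh.IsQCoh A := cA.1
  refine ⟨⟨Coherent.isQCoh_tensorMod A E, Coherent.isFT_tensorMod A E cA.2 cE.2⟩, d, fun x => ?_⟩
  haveI : Module.Free (Y.presheaf.stalk x) (E.presheaf.stalk x) := Props12.free_stalk_of_isFinLocFree E hE x
  haveI : Module.Finite (Y.presheaf.stalk x) (E.presheaf.stalk x) := AssSch12.finite_stalk cE x
  haveI : Module.Free (Y.presheaf.stalk x) (st x E : Type u) := ‹Module.Free (Y.presheaf.stalk x) (E.presheaf.stalk x)›
  haveI : Module.Finite (Y.presheaf.stalk x) (st x E : Type u) := ‹Module.Finite (Y.presheaf.stalk x) (E.presheaf.stalk x)›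
  let b : (st x E : Type u) ≃ₗ[Y.presheaf.stalk x]
      (Fin (Module.finrank (Y.presheaf.stalk x) (st x E : Type u)) → Y.presheaf.stalk x) :=
    (Module.finBasis (Y.presheaf.stalk x) (st x E : Type u)).equivFun
  let c : (TensorProduct (Y.presheaf.stalk x) (st x A : Type u) (st x E : Type u)) ≃ₗ[Y.presheaf.stalk x]
      (Fin (Module.finrank (Y.presheaf.stalk x) (st x E : Type u)) → (st x A : Type u)) :=
    TensorProduct.congr (LinearEquiv.refl _ _) b ≪≫ₗ
      TensorProduct.piScalarRight (Y.presheaf.stalk x) (Y.presheaf.stalk x) (st x A : Type u) _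
  haveI := pd_pi (st x A : Type u) (hd x) (Module.finrank (Y.presheaf.stalk x) (st x E : Type u))
  exact hasProjectiveDimensionLT_of_iso (stalkTensorIso x A E ≪≫ c.toModuleIso).symm (d + 1)

theorem clSub_tensor_additive {E : Y.Modules} (hE : FlatMod.IsFinLocFree E) (S : ShortComplex Y.Modules)
    (hS : S.ShortExact) (h₁ : cohBdd Y S.X₁) (h₂ : cohBdd Y S.X₂) (h₃ : cohBdd Y S.X₃) :
    KZero.clSub (cohBdd Y) (CohB1.tensorMod S.X₂ E) =
      KZero.clSub (cohBdd Y) (CohB1.tensorMod S.X₁ E) + KZero.clSub (cohBdd Y) (CohB1.tensorMod S.X₃ E) := by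
  haveI := CAlgH3.LocFreeFactor.isQCoh_of_finLocFree hE
  obtain ⟨T, hT, e₁, e₂, e₃⟩ := VarietyLib.exists_tensorSeq hS E fun x => by
    haveI := Props12.free_stalk_of_isFinLocFree E hE x
    infer_instance
  rw [← e₁, ← e₂, ← e₃]
  exact Resolution28.clSub_rel hT (e₁ ▸ cohBdd_tensor h₁ hE) (e₂ ▸ cohBdd_tensor h₂ hE) (e₃ ▸ cohBdd_tensor h₃ hE)

end Tensor

section Comp

variable {Y Z : Scheme.{u}} (g : Y ⟶ Z) [IsLocallyNoetherian Y] [IsLocallyNoetherian Z] [CompactSpace Z]

/-- Direct images along a regular closed immersion preserve bounded projective dimension. -/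
theorem cohBdd_push_of_bdd (hY : KRR.HasEnoughLocFree Y) (hZ : KRR.HasEnoughLocFree Z)
    (hg : Mor2.IsRegularClosedImmersion g) :
    ∀ (d : ℕ) (A : Y.Modules), Coh.IsCoh A → (∀ x, HasProjectiveDimensionLT (st x A) (d + 1)) →
      cohBdd Z ((Scheme.Modules.pushforward g).obj A) := by
  haveI := hg.1
  intro d
  induction d with
  | zero => exact fun A hA h => cohBdd_push g hZ hg (isFinLocFree_of_LT_one hA h)
  | succ d ih =>
    intro A hA h
    obtain ⟨L, p, hL, hp⟩ := hY A hA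
    haveI := hp
    have hK : Coh.IsCoh (kernel p) := isCoh_kernel' p (Coherent.CohBC.isCoh_of_isFinLocFree hL) hA
    obtain ⟨-, d1, h1⟩ := ih (kernel p) hK fun x =>
      (st_shortExact x (ses_kernel p)).hasProjectiveDimensionLT_X₁ (d + 1)
        (LT_mono x L (LT_one_of_finLocFree hL x) (by omega)) (h x)
    obtain ⟨-, d2, h2⟩ := cohBdd_push g hZ hg hL
    refine ⟨Coherent.isCoh_push_finite g hA, d1 + d2 + 1, fun z => ?_⟩
    exact (st_shortExact z (shortExact_push g (ses_kernel p))).hasProjectiveDimensionLT_X₃ (d1 + d2 + 1)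
      (LT_mono z _ (h1 z) (by omega)) (LT_mono z _ (h2 z) (by omega))

theorem cohBdd_push' (hY : KRR.HasEnoughLocFree Y) (hZ : KRR.HasEnoughLocFree Z)
    (hg : Mor2.IsRegularClosedImmersion g) {A : Y.Modules} (hA : cohBdd Y A) :
    cohBdd Z ((Scheme.Modules.pushforward g).obj A) :=
  cohBdd_push_of_bdd g hY hZ hg hA.2.choose A hA.1 hA.2.choose_spec

end Comp

end Groth.Agent.KPush28
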